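import Groth.Agent.CurveComplReg.Main
import Groth.Agent.Nagata.Projective
import Groth.Agent.TMul.RelAmple
import Groth.Agent.NormBlow.Basic

/-!
Projective integral completion of an affine variety, normal when the variety is.
-/

set_option autoImplicit false
set_option backward.isDefEq.respectTransparency false
set_option backward.isDefEq.respectTransparency.types false
set_option linter.style.haveILetI false
set_option maxHeartbeats 1000000

universe u

open CategoryTheory CategoryTheory.Limits AlgebraicGeometry TopologicalSpace Opposite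

noncomputable section

namespace Groth.Agent.AffCompl

theorem exists_closedImmersion_of_ample {k : Type u} [Field k] {Y : Scheme.{u}} (g : Y ⟶ Spec (CommRingCat.of k))
    [IsProper g] {L : Y.Modules} (hL : CohB1.IsAmple L) :
    ∃ (n : ℕ) (c : Y ⟶ CohB1.ProjSpace n k), IsClosedImmersion c ∧ c ≫ CohB1.ProjSpace.toSpec n k = g := by
  obtain ⟨n, i, hi, hig⟩ := SymAlg.isHProjective_of_affine
    (LocImmBlow.isProjective_of_ample g ((TMul.isRelAmple_iff_isAmple (f := g)).2 hL))
  obtain ⟨e, he⟩ := PnSpec.exists_iso n k
  refine ⟨n, i ≫ e.inv, inferInstance, ?_⟩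
  rw [Category.assoc, ← hig]
  congr 1
  rw [Iso.inv_comp_eq, he]

theorem main (k : Type u) [Field k] (X : Scheme.{u}) (f : X ⟶ Spec (CommRingCat.of k)) [IsAffine X]
    [IsIntegral X] [LocallyOfFiniteType f] :
    ∃ (Y : Scheme.{u}) (g : Y ⟶ Spec (CommRingCat.of k)) (n : ℕ) (c : Y ⟶ CohB1.ProjSpace n k) (j : X ⟶ Y),
      IsIntegral Y ∧ IsClosedImmersion c ∧ c ≫ CohB1.ProjSpace.toSpec n k = g ∧ IsOpenImmersion j ∧ j ≫ g = f ∧
        (Pi1.IsNormalScheme X → Pi1.IsNormalScheme Y) := by
  haveI : QuasiCompact f := inferInstance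
  haveI : IsNoetherian X := LocImmBlow.isNoetherian_of_ft f
  have hO : RelAmple.IsRelAmple f (Coh.structureModule X) := (TMul.isRelAmple_iff_isAmple (f := f)).2
    (TMul.isAmple_of_isQuasiAffine (TMul.isInvertible_structureModule (X := X)))
  obtain ⟨P, p, j₀, hp, hjO, hjq, hjd, hjp⟩ := Nagata.exists_open_projective
    (q := f) ⟨inferInstance, inferInstance, _, hO⟩
  haveI := hjO
  haveI := hjq
  obtain ⟨hpp, L, hL⟩ := SymAlg.isProper_and_ftData_of_isProjective hp
  haveI : IsProper p := hpp
  haveI : IsNoetherian P := LocImmBlow.isNoetherian_of_ft p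
  have hLa : CohB1.IsAmple L := (TMul.isRelAmple_iff_isAmple (f := p)).1
    (SymAlg.isRelAmple_of_isRelVeryAmple p hL.1 hL.isRelVeryAmple)
  let Y := j₀.normalization
  let ν := j₀.fromNormalization
  let j := j₀.toNormalization
  haveI : IsOpenImmersion j := CurveComplReg.isOpenImmersion_toNormalization j₀
  haveI : IsFinite ν := NagataNorm.isFinite_fromNormalization j₀
    (fun U => NormBlow.isNagata_of_lft p (fun V => by
      refine Nagata.isNagata_affine (fun _ : PUnit.{u + 1} => (⊤ : (Spec (CommRingCat.of k)).Opens)) (by simp)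
        (fun _ => isAffineOpen_top _) (fun _ => ?_) V.1 V.2
      letI : Algebra k Γ(Spec (CommRingCat.of k), ⊤) := (Scheme.ΓSpecIso (CommRingCat.of k)).inv.hom.toAlgebra
      haveI : Algebra.FiniteType k Γ(Spec (CommRingCat.of k), ⊤) :=
        RingHom.FiniteType.of_surjective _ (Scheme.ΓSpecIso (CommRingCat.of k)).commRingCatIsoToRingEquiv.symm.surjective
      exact Nagata.isNagata_of_finiteType (R := k) (GeomProp.isN2_quotient_field k)) U)
    (fun U => ((NoetherianSpace.finite_irreducibleComponents (α := X)).preimage
      (f := fun η : X => closure ({η} : Set X)) fun a _ b _ h =>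
        (show IsGenericPoint a (closure {b}) from h).eq isGenericPoint_closure).subset fun η hη => hη.2)
    (fun x _ => RingHom.FiniteType.essFiniteType (RingHom.FiniteType.of_surjective _
      (ConcreteCategory.bijective_of_isIso (j₀.residueFieldMap x)).2))
  obtain ⟨n, c, hc, hcg⟩ := exists_closedImmersion_of_ample (ν ≫ p) (TMul.isAmple_pullback_of_isAffineHom ν hLa)
  haveI : IsReduced Y := inferInstanceAs (IsReduced j₀.normalization)
  haveI : Nonempty Y := ⟨j (genericPoint X)⟩
  haveI : IrreducibleSpace Y := by
    have hd : DenseRange j.base := j₀.toNormalization.denseRange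
    have h : IsIrreducible (Set.range j.base) := by
      rw [← Set.image_univ]
      exact (IrreducibleSpace.isIrreducible_univ X).image _ j.continuous.continuousOn
    have h2 := h.closure
    rw [hd.closure_range] at h2
    exact (irreducibleSpace_def _).mpr h2
  refine ⟨Y, ν ≫ p, n, c, j, isIntegral_of_irreducibleSpace_of_isReduced _, hc, hcg, inferInstance, ?_, fun hX => ?_⟩
  · show j ≫ ν ≫ p = f
    rw [← Category.assoc, j₀.toNormalization_fromNormalization, hjp]
  · haveI : Finite ↥(irreducibleComponents ↥X) := NoetherianSpace.finite_irreducibleComponents.to_subtype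
    exact NormalizationNormal.isNormal_normalization j₀ hX (locallyFinite_of_finite _)

end Groth.Agent.AffCompl
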